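import Cfsg.Agent.SpEvenDeg.Orbit
import Cfsg.Agent.SUDeg.Eigen
import Cfsg.Agent.SLDeg.Main
import Cfsg.Agent.Classical.SympGroup

/-!
The smallest degree of a nontrivial irreducible representation of a symplectic group in characteristic two.
-/

set_option autoImplicit false
set_option linter.unusedSectionVars false

namespace Cfsg.Agent.SpEvenDeg

open Matrix Module Cfsg.Agent.SUDeg

variable {F : Type*} [Field F] {n : ℕ}

/-- Symmetric matrices. -/
def SymM (n : ℕ) (F : Type*) [Field F] : AddSubgroup (Matrix (Fin n) (Fin n) F) where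
  carrier := {S | Sᵀ = S}
  zero_mem' := transpose_zero
  add_mem' := fun {S T} hS hT => by
    show (S + T)ᵀ = S + T
    rw [transpose_add, show Sᵀ = S from hS, show Tᵀ = T from hT]
  neg_mem' := fun {S} hS => by
    show (-S)ᵀ = -S
    rw [transpose_neg, show Sᵀ = S from hS]

theorem mem_symM {S : Matrix (Fin n) (Fin n) F} : S ∈ SymM n F ↔ Sᵀ = S := Iff.rfl

/-- The elements of the Siegel radical. -/
def uS (S : SymM n F) : Matrix.symplecticGroup (Fin n) F :=
  ⟨fromBlocks 1 S.1 0 1, by
    rw [SymplecticGroup.mem_iff, J, fromBlocks_transpose, fromBlocks_multiply, fromBlocks_multiply]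
    have h := mem_symM.1 S.2
    simp [h]⟩

theorem uS_zero : uS (0 : SymM n F) = 1 := Subtype.ext (by simp [uS, fromBlocks_one])

theorem uS_add (S T : SymM n F) : uS (S + T) = uS S * uS T := Subtype.ext (by
  show fromBlocks 1 (S.1 + T.1) 0 1 = fromBlocks 1 S.1 0 1 * fromBlocks 1 T.1 0 1
  rw [fromBlocks_multiply]
  simp [add_comm])

theorem uS_injective : Function.Injective (uS (n := n) (F := F)) := fun S T h => by
  have := congrArg (fun g : Matrix.symplecticGroup (Fin n) F => (g.1).toBlocks₁₂) h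
  exact Subtype.ext (by simpa [uS] using this)

/-- The elements of the Levi subgroup. -/
noncomputable def dA (A : Matrix (Fin n) (Fin n) F) (hA : IsUnit A.det) : Matrix.symplecticGroup (Fin n) F :=
  ⟨fromBlocks A 0 0 (A⁻¹)ᵀ, by
    rw [SymplecticGroup.mem_iff, J, fromBlocks_transpose, fromBlocks_multiply, fromBlocks_multiply]
    simp [Matrix.mul_nonsing_inv A hA, ← transpose_mul]⟩

/-- The symmetric matrix moved by a matrix. -/
def move (A : Matrix (Fin n) (Fin n) F) : SymM n F →+ SymM n F where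
  toFun S := ⟨A * S.1 * Aᵀ, by
    rw [mem_symM, transpose_mul, transpose_mul, transpose_transpose, mem_symM.1 S.2, Matrix.mul_assoc]⟩
  map_zero' := Subtype.ext (by simp)
  map_add' S T := Subtype.ext (by simp [Matrix.mul_add, Matrix.add_mul])

theorem dA_mul_uS (A : Matrix (Fin n) (Fin n) F) (hA : IsUnit A.det) (S : SymM n F) :
    dA A hA * uS S = uS (move A S) * dA A hA := Subtype.ext (by
  show fromBlocks A 0 0 (A⁻¹)ᵀ * fromBlocks 1 S.1 0 1 = fromBlocks 1 (A * S.1 * Aᵀ) 0 1 * fromBlocks A 0 0 (A⁻¹)ᵀ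
  rw [fromBlocks_multiply, fromBlocks_multiply]
  simp [Matrix.mul_assoc, ← transpose_mul, Matrix.nonsing_inv_mul A hA])

/-- The rank one symmetric matrices. -/
def sq (t : F) (x : Fin n → F) : SymM n F :=
  ⟨t • vecMulVec x x, by rw [mem_symM, transpose_smul, transpose_vecMulVec]⟩

/-- The rank two symmetric matrices. -/
def cross (t : F) (x y : Fin n → F) : SymM n F :=
  ⟨t • (vecMulVec x y + vecMulVec y x), by
    rw [mem_symM, transpose_smul, transpose_add, transpose_vecMulVec, transpose_vecMulVec, add_comm]⟩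

theorem sq_add (s t : F) (x : Fin n → F) : sq (s + t) x = sq s x + sq t x := Subtype.ext (add_smul _ _ _)

theorem cross_add (s t : F) (x y : Fin n → F) : cross (s + t) x y = cross s x y + cross t x y :=
  Subtype.ext (add_smul _ _ _)

theorem sq_add_vec (t : F) (x y : Fin n → F) : sq t (x + y) = sq t x + sq t y + cross t x y := Subtype.ext (by
  show t • vecMulVec (x + y) (x + y) = t • vecMulVec x x + t • vecMulVec y y + t • (vecMulVec x y + vecMulVec y x)
  rw [add_vecMulVec, vecMulVec_add, vecMulVec_add]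
  module)

theorem sq_smul (t c : F) (x : Fin n → F) : sq t (c • x) = sq (t * (c * c)) x := Subtype.ext (by
  show t • vecMulVec (c • x) (c • x) = (t * (c * c)) • vecMulVec x x
  rw [smul_vecMulVec, vecMulVec_smul, smul_smul, smul_smul]
  congr 1
  ring)

theorem cross_smul_left (t c : F) (x y : Fin n → F) : cross t (c • x) y = cross (t * c) x y := Subtype.ext (by
  show t • (vecMulVec (c • x) y + vecMulVec y (c • x)) = (t * c) • (vecMulVec x y + vecMulVec y x)
  rw [smul_vecMulVec, vecMulVec_smul]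
  module)

theorem cross_add_left (t : F) (x x' y : Fin n → F) : cross t (x + x') y = cross t x y + cross t x' y :=
  Subtype.ext (by
  show t • (vecMulVec (x + x') y + vecMulVec y (x + x'))
    = t • (vecMulVec x y + vecMulVec y x) + t • (vecMulVec x' y + vecMulVec y x')
  rw [add_vecMulVec, vecMulVec_add]
  module)

theorem cross_comm (t : F) (x y : Fin n → F) : cross t x y = cross t y x := Subtype.ext (by
  show t • (vecMulVec x y + vecMulVec y x) = t • (vecMulVec y x + vecMulVec x y)
  rw [add_comm])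

theorem move_sq (A : Matrix (Fin n) (Fin n) F) (t : F) (x : Fin n → F) : move A (sq t x) = sq t (A *ᵥ x) :=
  Subtype.ext (by
  show A * (t • vecMulVec x x) * Aᵀ = t • vecMulVec (A *ᵥ x) (A *ᵥ x)
  rw [Matrix.mul_smul, Matrix.smul_mul, mul_vecMulVec, vecMulVec_mul, vecMul_transpose])

variable [Fintype F]

theorem exists_ne_one' {ψ : AddChar F ℂ} (hψ : ψ ≠ 1) {c : F} (hc : c ≠ 0) : ∃ t, ψ (t * c) ≠ 1 := by
  by_contra h
  push Not at h
  refine hψ (DFunLike.ext _ _ fun x => ?_)
  have := h (x / c)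
  rwa [div_mul_cancel₀ _ hc] at this

/-- Every additive character of the field is given by a scalar. -/
theorem char_scalar {ψ : AddChar F ℂ} (hψ : ψ ≠ 1) (χ : AddChar F ℂ) : ∃ c : F, ∀ t, χ t = ψ (t * c) := by
  classical
  let Φ : F → AddChar F ℂ := fun c =>
    { toFun := fun t => ψ (t * c)
      map_zero_eq_one' := by rw [zero_mul, AddChar.map_zero_eq_one]
      map_add_eq_mul' := fun s t => by rw [add_mul, AddChar.map_add_eq_mul] }
  have hinj : Function.Injective Φ := fun a b hab => by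
    by_contra hne
    obtain ⟨t, ht⟩ := exists_ne_one' hψ (sub_ne_zero.2 hne)
    refine ht ?_
    have h : ψ (t * a) = ψ (t * b) := DFunLike.congr_fun hab t
    rw [mul_sub, sub_eq_add_neg, AddChar.map_add_eq_mul, h, ← AddChar.map_add_eq_mul, add_neg_cancel,
      AddChar.map_zero_eq_one]
  obtain ⟨c, hc⟩ := ((Fintype.bijective_iff_injective_and_card Φ).2 ⟨hinj, AddChar.card_eq.symm⟩).2 χ
  exact ⟨c, fun t => by rw [← hc]; rfl⟩

theorem scalar_unique {ψ : AddChar F ℂ} (hψ : ψ ≠ 1) {a b : F} (h : ∀ t, ψ (t * a) = ψ (t * b)) : a = b := by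
  by_contra hne
  obtain ⟨t, ht⟩ := exists_ne_one' hψ (sub_ne_zero.2 hne)
  refine ht ?_
  rw [mul_sub, sub_eq_add_neg, AddChar.map_add_eq_mul, h, ← AddChar.map_add_eq_mul, add_neg_cancel,
    AddChar.map_zero_eq_one]

/-- The quadratic form of a character of the symmetric matrices. -/
theorem exists_form {ψ : AddChar F ℂ} (hψ : ψ ≠ 1) (χ : AddChar (SymM n F) ℂ) :
    ∃ (Φ : (Fin n → F) → F) (B : (Fin n → F) →ₗ[F] (Fin n → F) →ₗ[F] F), IsQ Φ B ∧
      (∀ t x, χ (sq t x) = ψ (t * Φ x)) ∧ ∀ t x y, χ (cross t x y) = ψ (t * B x y) := by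
  classical
  have h1 : ∀ x : Fin n → F, ∃ c : F, ∀ t, χ (sq t x) = ψ (t * c) := fun x => by
    let χ' : AddChar F ℂ :=
      { toFun := fun t => χ (sq t x)
        map_zero_eq_one' := by
          rw [show sq 0 x = (0 : SymM n F) from Subtype.ext (zero_smul _ _), AddChar.map_zero_eq_one]
        map_add_eq_mul' := fun s t => by rw [sq_add, AddChar.map_add_eq_mul] }
    exact char_scalar hψ χ'
  have h2 : ∀ x y : Fin n → F, ∃ c : F, ∀ t, χ (cross t x y) = ψ (t * c) := fun x y => by
    let χ' : AddChar F ℂ :=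
      { toFun := fun t => χ (cross t x y)
        map_zero_eq_one' := by
          rw [show cross 0 x y = (0 : SymM n F) from Subtype.ext (zero_smul _ _), AddChar.map_zero_eq_one]
        map_add_eq_mul' := fun s t => by rw [cross_add, AddChar.map_add_eq_mul] }
    exact char_scalar hψ χ'
  choose Φ hΦ using h1
  choose β hβ using h2
  have hsymm : ∀ x y, β x y = β y x := fun x y => scalar_unique hψ fun t => by rw [← hβ, ← hβ, cross_comm]
  have hadd : ∀ x x' y, β (x + x') y = β x y + β x' y := fun x x' y => scalar_unique hψ fun t => by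
    rw [← hβ, cross_add_left, AddChar.map_add_eq_mul, hβ, hβ, mul_add, AddChar.map_add_eq_mul]
  have hsmul : ∀ (c : F) x y, β (c • x) y = c * β x y := fun c x y => scalar_unique hψ fun t => by
    rw [← hβ, cross_smul_left, hβ, mul_assoc]
  refine ⟨Φ, LinearMap.mk₂ F β hadd hsmul (fun x y y' => by rw [hsymm, hadd, hsymm y, hsymm y'])
    (fun c x y => by rw [hsymm, hsmul, hsymm, smul_eq_mul]), ⟨fun c x => scalar_unique hψ fun t => ?_,
    fun x y => scalar_unique hψ fun t => ?_⟩, fun t x => hΦ x t, fun t x y => hβ x y t⟩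
  · rw [← hΦ, sq_smul, hΦ, mul_assoc t (c * c)]
  · rw [← hΦ, sq_add_vec, AddChar.map_add_eq_mul, AddChar.map_add_eq_mul, hΦ, hΦ, hβ, mul_add, mul_add,
      AddChar.map_add_eq_mul, AddChar.map_add_eq_mul]
    rfl

/-- The degree bound. -/
theorem degree_ge [DecidableEq F] (hn : 2 ≤ n) (hchar : ringChar F = 2) (hex : n = 2 → 3 ≤ Fintype.card F) (k : ℕ)
    (ρ : Representation ℂ (Matrix.symplecticGroup (Fin n) F) (Fin k → ℂ)) (hirr : ρ.IsIrreducible) (hk : 2 ≤ k) :
    (Fintype.card F ^ n - 1) * (Fintype.card F ^ n - Fintype.card F) / (2 * (Fintype.card F + 1)) ≤ k := by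
  classical
  haveI : CharP F 2 := ringChar.of_eq hchar
  obtain ⟨ψ, hψ⟩ := SLDeg.exists_addChar_ne_one (F := F)
  -- the group is simple
  have hodd : Odd (Fintype.card F - 1) := by
    obtain ⟨j, hj, hjF⟩ := FiniteField.card F 2
    obtain ⟨a, ha⟩ : ∃ a, Fintype.card F = 2 * a := by
      rw [hjF]
      exact dvd_pow_self 2 j.ne_zero
    have := Fintype.card_pos (α := F)
    exact ⟨a - 1, by omega⟩
  have hcen : Subgroup.center (Matrix.symplecticGroup (Fin n) F) = ⊥ := by
    rw [Subgroup.eq_bot_iff_card, Classical.card_center_symplectic (by omega)]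
    exact (Nat.coprime_two_left.2 hodd)
  have hsimple : IsSimpleGroup (Cfsg.PSp n F) := Classical.isSimpleGroup_psp hn hex
  -- the cross elements
  set i₀ : Fin n := ⟨0, by omega⟩
  set i₁ : Fin n := ⟨1, by omega⟩
  have hmoved : ∃ v, ρ (uS (cross 1 (Pi.single i₀ 1) (Pi.single i₁ 1))) v ≠ v := by
    by_contra hc
    push Not at hc
    have hg : uS (cross (1 : F) (Pi.single i₀ 1) (Pi.single i₁ 1)) ≠ 1 := by
      rw [← uS_zero]
      intro h
      have h1 := congrArg (fun S : SymM n F => S.1 i₀ i₁) (uS_injective h)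
      have h01 : i₀ ≠ i₁ := by simp [i₀, i₁, Fin.ext_iff]
      simp [cross, vecMulVec_apply, h01, h01.symm] at h1
    let π₀ := QuotientGroup.mk' (Subgroup.center (Matrix.symplecticGroup (Fin n) F))
    have hinj : Function.Injective π₀ := by
      rw [← MonoidHom.ker_eq_bot_iff, QuotientGroup.ker_mk', hcen]
    have hN : (MonoidHom.ker ρ).map π₀ = ⊥ ∨ (MonoidHom.ker ρ).map π₀ = ⊤ := by
      haveI : IsSimpleGroup (Matrix.symplecticGroup (Fin n) F ⧸ Subgroup.center (Matrix.symplecticGroup (Fin n) F)) :=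
        hsimple
      exact (Subgroup.Normal.map inferInstance π₀ (QuotientGroup.mk'_surjective _)).eq_bot_or_eq_top
    have htriv : ∀ g, ρ g = 1 := by
      rcases hN with h | h
      · exfalso
        refine hg ?_
        have hm : uS (cross (1 : F) (Pi.single i₀ 1) (Pi.single i₁ 1)) ∈ MonoidHom.ker ρ := LinearMap.ext hc
        have := Subgroup.mem_map_of_mem π₀ hm
        rw [h, Subgroup.mem_bot] at this
        exact hinj (this.trans (map_one π₀).symm)
      · intro g
        obtain ⟨g', hg', hgg⟩ : π₀ g ∈ (MonoidHom.ker ρ).map π₀ := h ▸ Subgroup.mem_top _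
        rw [← hinj hgg]
        exact hg'
    have := SLDeg.no_trivial ρ hirr hk (v := Pi.single ⟨0, by omega⟩ 1) fun g => by rw [htriv g]; rfl
    simpa using congrFun this ⟨0, by omega⟩
  -- the eigenspaces of the radical
  let φ : AddChar (SymM n F) (Module.End ℂ (Fin k → ℂ)) :=
    { toFun := fun S => ρ (uS S)
      map_zero_eq_one' := by rw [uS_zero, map_one]
      map_add_eq_mul' := fun S T => by rw [uS_add, map_mul] }
  obtain ⟨χ, hχ, hne⟩ : ∃ χ : AddChar (SymM n F) ℂ,
      χ (cross 1 (Pi.single i₀ 1) (Pi.single i₁ 1)) ≠ 1 ∧ eig φ ⊤ χ ≠ ⊥ := by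
    by_contra hc
    push Not at hc
    obtain ⟨v, hv⟩ := hmoved
    obtain ⟨_, hs⟩ := sum_proj (φ := φ) v
    refine hv ?_
    show φ _ v = v
    conv_lhs => rw [← hs]
    rw [map_sum]
    refine Eq.trans (Finset.sum_congr rfl fun χ _ => ?_) hs
    have hp := proj_mem (φ := φ) (C := ⊤) (fun _ _ _ => trivial) χ (Submodule.mem_top (x := v))
    by_cases h1 : χ (cross 1 (Pi.single i₀ 1) (Pi.single i₁ 1)) = 1
    · rw [(mem_eig.1 hp).2, h1, one_smul]
    · rw [hc χ h1, Submodule.mem_bot] at hp
      rw [hp, map_zero]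
  obtain ⟨Φ, B, hQ, hΦ, hBc⟩ := exists_form hψ χ
  have hB : B ≠ 0 := fun h0 => hχ (by rw [hBc, h0]; simp)
  -- a character for each element of the orbit
  have horb : ∀ f : orb F Φ, ∃ χ' : AddChar (SymM n F) ℂ,
      eig φ ⊤ χ' ≠ ⊥ ∧ ∀ t x, χ' (sq t x) = ψ (t * f.1 x) := by
    rintro ⟨_, g, rfl⟩
    set A := LinearMap.toMatrix' g.toLinearMap with hA
    have hAv : ∀ x, A *ᵥ x = g x := fun x => by
      rw [hA, ← Matrix.toLin'_apply, Matrix.toLin'_toMatrix']
      rfl
    have hdet : IsUnit A.det := by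
      rw [hA, LinearMap.det_toMatrix']
      exact LinearEquiv.isUnit_det' g
    refine ⟨χ.compAddMonoidHom (move A), ?_, fun t x => ?_⟩
    · obtain ⟨v, hv, hv0⟩ := (Submodule.ne_bot_iff _).1 hne
      have hv' := (mem_eig.1 hv).2
      refine (Submodule.ne_bot_iff _).2 ⟨ρ (dA A hdet)⁻¹ v, mem_eig.2 ⟨trivial, fun S => ?_⟩, fun h0 => hv0 ?_⟩
      · show ρ (uS S) (ρ (dA A hdet)⁻¹ v) = χ (move A S) • ρ (dA A hdet)⁻¹ v
        rw [← Module.End.mul_apply, ← map_mul,
          show uS S * (dA A hdet)⁻¹ = (dA A hdet)⁻¹ * uS (move A S) by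
            rw [eq_inv_mul_iff_mul_eq, ← mul_assoc, dA_mul_uS, mul_inv_cancel_right],
          map_mul, Module.End.mul_apply]
        show ρ _ (φ _ v) = _
        rw [hv', map_smul]
      · have := congrArg (ρ (dA A hdet)) h0
        rwa [← Module.End.mul_apply, ← map_mul, mul_inv_cancel, map_one, map_zero, Module.End.one_apply] at this
    · show χ (move A (sq t x)) = _
      rw [move_sq, hΦ, hAv]
      rfl
  choose χf hχf hχfv using horb
  have hinj : Function.Injective χf := fun f f' h => Subtype.ext (funext fun x => scalar_unique hψ fun t => by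
    rw [← hχfv, ← hχfv, h])
  haveI : Fintype (orb F Φ) := Fintype.ofFinite _
  have hcount : (orb F Φ).ncard ≤ k := by
    rw [← Nat.card_coe_set_eq, Nat.card_eq_fintype_card]
    have h1 := sum_finrank_le (φ := φ) (C := ⊤) (Finset.univ.image χf)
    rw [finrank_top, Module.finrank_fin_fun] at h1
    refine le_trans ?_ h1
    rw [Finset.sum_image hinj.injOn, ← Finset.card_univ, Finset.card_eq_sum_ones]
    exact Finset.sum_le_sum fun f _ => Submodule.one_le_finrank_iff.2 (hχf f)
  refine Nat.div_le_of_le_mul ?_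
  have h := orb_bound n (Fin n → F) Φ B (Module.finrank_fin_fun F) hQ hB
  exact h.trans (Nat.mul_le_mul_left _ hcount)

end Cfsg.Agent.SpEvenDeg
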