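import Mathlib

/-!
Lower bound for the orbit of a quadratic form with nonzero polar form over a finite field of characteristic two
under the full linear group.
-/

set_option autoImplicit false
set_option linter.unusedSectionVars false

namespace Cfsg.Agent.SpEvenDeg

open Module

variable {F : Type*} [Field F] [Fintype F] [CharP F 2]

/-- A quadratic form with its polar form. -/
structure IsQ {V : Type*} [AddCommGroup V] [Module F V] (Φ : V → F) (B : V →ₗ[F] V →ₗ[F] F) : Prop where
  scale : ∀ (c : F) (x : V), Φ (c • x) = c * c * Φ x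
  add : ∀ x y : V, Φ (x + y) = Φ x + Φ y + B x y

variable {V : Type*} [AddCommGroup V] [Module F V] {Φ : V → F} {B : V →ₗ[F] V →ₗ[F] F}

theorem IsQ.zero (h : IsQ Φ B) : Φ 0 = 0 := by
  have := h.scale 0 0
  simpa using this

theorem IsQ.self (h : IsQ Φ B) (x : V) : B x x = 0 := by
  have h1 := h.add x x
  have h2 := h.scale 2 x
  rw [two_smul] at h2
  rw [h2, CharTwo.add_self_eq_zero, zero_add, CharTwo.two_eq_zero] at h1
  simpa using h1.symm

theorem IsQ.symm (h : IsQ Φ B) (x y : V) : B x y = B y x := by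
  have h1 := h.add x y
  rw [add_comm x y, h.add y x] at h1
  linear_combination -h1

theorem IsQ.restrict (h : IsQ Φ B) (H : Submodule F V) :
    IsQ (fun x : H => Φ x) (B.compl₁₂ H.subtype H.subtype) :=
  ⟨fun c x => h.scale c x, fun x y => h.add x y⟩

theorem IsQ.comp (h : IsQ Φ B) (g : V ≃ₗ[F] V) : IsQ (fun x => Φ (g x)) (B.compl₁₂ g.toLinearMap g.toLinearMap) :=
  ⟨fun c x => by rw [map_smul, h.scale], fun x y => by rw [map_add, h.add]; rfl⟩

/-- The orbit under all linear automorphisms. -/
def orb (F : Type*) [Field F] {V : Type*} [AddCommGroup V] [Module F V] (Φ : V → F) : Set (V → F) :=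
  Set.range fun g : V ≃ₗ[F] V => Φ ∘ g

/-- Functions whose additivity fails on a subspace. -/
def bad (H : Submodule F V) (f : V → F) : Prop := ∃ x ∈ H, ∃ y ∈ H, f (x + y) ≠ f x + f y

theorem exists_sqrt (a : F) : ∃ s : F, s * s = a := by
  obtain ⟨s, hs⟩ := FiniteField.isSquare_of_char_two (ringChar.eq F 2) a
  exact ⟨s, hs.symm⟩

/-- An automorphism extending one of the kernel of a functional. -/
theorem exists_ext [FiniteDimensional F V] (lam : V →ₗ[F] F) {e : V} (he : lam e = 1)
    (g0 : LinearMap.ker lam ≃ₗ[F] LinearMap.ker lam) {e' : V} (he' : lam e' ≠ 0) :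
    ∃ g : V ≃ₗ[F] V, (∀ x : LinearMap.ker lam, g x = g0 x) ∧ g e = e' := by
  let pr : V →ₗ[F] LinearMap.ker lam :=
    (LinearMap.id - lam.smulRight e).codRestrict (LinearMap.ker lam) fun x => by
      simp [LinearMap.mem_ker, he]
  have hpr : ∀ x, (pr x : V) = x - lam x • e := fun x => rfl
  let L : V →ₗ[F] V := (LinearMap.ker lam).subtype ∘ₗ g0.toLinearMap ∘ₗ pr + lam.smulRight e'
  have hinj : Function.Injective L := (injective_iff_map_eq_zero L).2 fun x hx => by
    have h1 : lam (L x) = 0 := by rw [hx, map_zero]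
    have hk : lam (g0 (pr x) : V) = 0 := LinearMap.mem_ker.1 (g0 (pr x)).2
    simp [L, hk, he'] at h1
    have h2 : (g0 (pr x) : V) = 0 := by simpa [L, h1] using hx
    have h3 : pr x = 0 := g0.map_eq_zero_iff.1 (Subtype.ext h2)
    have h4 := congrArg Subtype.val h3
    simpa [hpr, h1] using h4
  refine ⟨LinearEquiv.ofBijective L ⟨hinj, LinearMap.injective_iff_surjective.1 hinj⟩, fun x => ?_, ?_⟩
  · have hx : lam (x : V) = 0 := LinearMap.mem_ker.1 x.2
    have hp : pr x = x := Subtype.ext (by simp [hpr, hx])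
    show L x = _
    simp [L, hp, hx]
  · have hp : pr e = 0 := Subtype.ext (by simp [hpr, he])
    show L e = _
    simp [L, hp, he]

/-- Every extension of a restriction in its orbit. -/
theorem fibre_bound [FiniteDimensional F V] [Finite V] (h : IsQ Φ B) (lam : V →ₗ[F] F) {e : V} (he : lam e = 1)
    {u w : V} (hu : lam u = 0) (hw : lam w = 0) (huw : B u w ≠ 0)
    {P : Type*} [Fintype P] (E : P → V) (hE : ∀ p, lam (E p) ≠ 0)
    (hP : ∀ p p', Φ (E p) = Φ (E p') → (∀ x, lam x = 0 → B (E p) x = B (E p') x) → p = p') :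
    Fintype.card P * (orb F fun x : LinearMap.ker lam => Φ x).ncard ≤
      {f | f ∈ orb F Φ ∧ bad (LinearMap.ker lam) f}.ncard := by
  classical
  let O := orb F fun x : LinearMap.ker lam => Φ x
  have hchoose : ∀ ψ : O, ∃ g0 : LinearMap.ker lam ≃ₗ[F] LinearMap.ker lam,
      (fun x : LinearMap.ker lam => Φ x) ∘ g0 = ψ.1 := fun ψ => ψ.2
  choose g0 hg0 using hchoose
  choose g hgH hge using fun (ψ : O) (p : P) => exists_ext lam he (g0 ψ) (hE p)
  let T := {f | f ∈ orb F Φ ∧ bad (LinearMap.ker lam) f}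
  let Θ : P × O → T := fun x => ⟨Φ ∘ g x.2 x.1, ⟨_, rfl⟩, by
    refine ⟨_, ((g0 x.2).symm ⟨u, hu⟩).2, _, ((g0 x.2).symm ⟨w, hw⟩).2, ?_⟩
    simp only [Function.comp_apply, map_add, hgH, LinearEquiv.apply_symm_apply]
    rw [h.add]
    simpa using huw⟩
  have hΘ : Function.Injective Θ := by
    rintro ⟨p, ψ⟩ ⟨p', ψ'⟩ he'
    have hf : ∀ x, Φ (g ψ p x) = Φ (g ψ' p' x) := fun x => congrFun (congrArg Subtype.val he') x
    have hψ : ψ = ψ' := Subtype.ext (funext fun x => by
      rw [← hg0 ψ, ← hg0 ψ']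
      have := hf x
      rwa [hgH, hgH] at this)
    subst hψ
    refine Prod.ext (hP p p' ?_ fun x hx => ?_) rfl
    · have := hf e
      rwa [hge, hge] at this
    · have h1 := hf (e + ((g0 ψ).symm ⟨x, hx⟩ : V))
      simp only [map_add, hge, hgH, LinearEquiv.apply_symm_apply] at h1
      rw [h.add, h.add] at h1
      have h2 := hf e
      rw [hge, hge] at h2
      simpa [h2] using h1
  have := Nat.card_le_card_of_injective Θ hΘ
  rwa [Nat.card_prod, Nat.card_eq_fintype_card, Nat.card_coe_set_eq, Nat.card_coe_set_eq] at this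

/-- Automorphisms are transitive on nonzero functionals. -/
theorem exists_dual_move {H : Type*} [AddCommGroup H] [Module F H] [FiniteDimensional F H] {a a' : H →ₗ[F] F}
    (ha : a ≠ 0) (ha' : a' ≠ 0) : ∃ g : H ≃ₗ[F] H, ∀ x, a' (g x) = a x := by
  obtain ⟨x₀, hx₀⟩ := LinearMap.surjective ha 1
  obtain ⟨y₀, hy₀⟩ := LinearMap.surjective ha' 1
  have hr : finrank F (LinearMap.ker a) = finrank F (LinearMap.ker a') := by
    have h1 := LinearMap.finrank_range_add_finrank_ker a
    have h2 := LinearMap.finrank_range_add_finrank_ker a'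
    rw [LinearMap.range_eq_top.2 (LinearMap.surjective ha), finrank_top] at h1
    rw [LinearMap.range_eq_top.2 (LinearMap.surjective ha'), finrank_top] at h2
    omega
  let φ := LinearEquiv.ofFinrankEq _ _ hr
  let pr : H →ₗ[F] LinearMap.ker a :=
    (LinearMap.id - a.smulRight x₀).codRestrict (LinearMap.ker a) fun x => by simp [LinearMap.mem_ker, hx₀]
  have hpr : ∀ x, (pr x : H) = x - a x • x₀ := fun x => rfl
  let L : H →ₗ[F] H := (LinearMap.ker a').subtype ∘ₗ φ.toLinearMap ∘ₗ pr + a.smulRight y₀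
  have hk : ∀ x, a' (φ (pr x) : H) = 0 := fun x => LinearMap.mem_ker.1 (φ (pr x)).2
  have hL : ∀ x, a' (L x) = a x := fun x => by simp [L, hk, hy₀]
  have hinj : Function.Injective L := (injective_iff_map_eq_zero L).2 fun x hx => by
    have h1 : a x = 0 := by rw [← hL, hx, map_zero]
    have h2 : (φ (pr x) : H) = 0 := by simpa [L, h1] using hx
    have h3 : pr x = 0 := φ.map_eq_zero_iff.1 (Subtype.ext h2)
    have h4 := congrArg Subtype.val h3
    simpa [hpr, h1] using h4
  exact ⟨LinearEquiv.ofBijective L ⟨hinj, LinearMap.injective_iff_surjective.1 hinj⟩, hL⟩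

/-- The values of a binary form on pairs with polar value one. -/
theorem pair_values [Finite V] (h : IsQ Φ B) {e w : V} (hew : B e w = 1) :
    Fintype.card F * (Fintype.card F - 1) ≤
      2 * ((fun pr : V × V => (Φ pr.1, Φ pr.2)) ''
        {pr | pr.1 ∈ Submodule.span F {e, w} ∧ pr.2 ∈ Submodule.span F {e, w} ∧ B pr.1 pr.2 = 1}).ncard := by
  classical
  set W := Submodule.span F {e, w}
  have heW : e ∈ W := Submodule.subset_span (Set.mem_insert _ _)
  have hwW : w ∈ W := Submodule.subset_span (Set.mem_insert_of_mem _ rfl)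
  obtain ⟨p₀, hp₀W, hp₀⟩ : ∃ p ∈ W, Φ p ≠ 0 := by
    by_cases h1 : Φ e = 0
    · by_cases h2 : Φ w = 0
      · exact ⟨e + w, W.add_mem heW hwW, by rw [h.add, h1, h2, hew, add_zero, zero_add]; exact one_ne_zero⟩
      · exact ⟨w, hwW, h2⟩
    · exact ⟨e, heW, h1⟩
  have hP : ∀ γ : {γ : F // γ ≠ 0}, ∃ p ∈ W, Φ p = γ.1 ∧ ∃ r ∈ W, B p r = 1 := by
    intro γ
    obtain ⟨s, hs⟩ := exists_sqrt (γ.1 / Φ p₀)
    have hΦ : Φ (s • p₀) = γ.1 := by rw [h.scale, hs, div_mul_cancel₀ _ hp₀]
    refine ⟨s • p₀, W.smul_mem s hp₀W, hΦ, ?_⟩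
    obtain ⟨a, b, hab⟩ := Submodule.mem_span_pair.1 (W.smul_mem s hp₀W)
    rcases eq_or_ne (B (s • p₀) e) 0 with h1 | h1
    · rcases eq_or_ne (B (s • p₀) w) 0 with h2 | h2
      · exfalso
        rw [← hab] at h1 h2
        simp [h.self, hew, h.symm w e] at h1 h2
        rw [← hab, h2, h1, zero_smul, zero_smul, add_zero, h.zero] at hΦ
        exact γ.2 hΦ.symm
      · exact ⟨(B (s • p₀) w)⁻¹ • w, W.smul_mem _ hwW, by rw [map_smul, smul_eq_mul, inv_mul_cancel₀ h2]⟩
    · exact ⟨(B (s • p₀) e)⁻¹ • e, W.smul_mem _ heW, by rw [map_smul, smul_eq_mul, inv_mul_cancel₀ h1]⟩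
  choose p hpW hpΦ r hrW hpr using hP
  set f : {γ : F // γ ≠ 0} × F → F × F := fun x => (x.1.1, Φ (r x.1 + x.2 • p x.1)) with hf
  have hsub : (Finset.univ.image f : Set (F × F)) ⊆ (fun pr : V × V => (Φ pr.1, Φ pr.2)) ''
      {pr | pr.1 ∈ W ∧ pr.2 ∈ W ∧ B pr.1 pr.2 = 1} := by
    intro z hz
    obtain ⟨⟨γ, t⟩, -, rfl⟩ := Finset.mem_image.1 (Finset.mem_coe.1 hz)
    exact ⟨(p γ, r γ + t • p γ), ⟨hpW γ, W.add_mem (hrW γ) (W.smul_mem t (hpW γ)),
      by simp [hpr, h.self]⟩, by simp [hf, hpΦ]⟩
  have h2 : (Finset.univ.image f).card ≤ ((fun pr : V × V => (Φ pr.1, Φ pr.2)) ''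
      {pr | pr.1 ∈ W ∧ pr.2 ∈ W ∧ B pr.1 pr.2 = 1}).ncard := by
    rw [← Set.ncard_coe_finset]
    exact Set.ncard_le_ncard hsub (Set.toFinite _)
  have h3 : (Finset.univ : Finset ({γ : F // γ ≠ 0} × F)).card ≤ 2 * (Finset.univ.image f).card := by
    refine Finset.card_le_mul_card_image _ 2 fun z _ => ?_
    by_cases hz : ∃ x, f x = z
    · obtain ⟨⟨γ, t⟩, rfl⟩ := hz
      refine le_trans (Finset.card_le_card (t := {(γ, t), (γ, t + (γ.1)⁻¹)}) ?_) Finset.card_le_two
      rintro ⟨γ', t'⟩ hx
      obtain ⟨h4, h5⟩ := Prod.ext_iff.1 (Finset.mem_filter.1 hx).2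
      obtain rfl : γ' = γ := Subtype.ext h4
      simp only [hf, h.add, h.scale, map_smul, hpΦ, h.symm (r γ'), hpr, smul_eq_mul, mul_one] at h5
      have h6 : (t' + t) * (1 + (t' + t) * γ'.1) = 0 := by
        linear_combination h5 + (t + t' * t * γ'.1 + t * t * γ'.1) * CharTwo.two_eq_zero (R := F)
      rcases mul_eq_zero.1 h6 with h7 | h7
      · rw [CharTwo.add_eq_zero] at h7
        simp [h7]
      · rw [CharTwo.add_eq_zero] at h7
        have h8 : t' + t = (γ'.1)⁻¹ := eq_inv_of_mul_eq_one_left h7.symm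
        have h9 : t' = t + (γ'.1)⁻¹ := by linear_combination h8 - t * CharTwo.two_eq_zero (R := F)
        simp [h9]
    · rw [Finset.card_eq_zero.2 (Finset.filter_eq_empty_iff.2 fun x _ hx => hz ⟨x, hx⟩)]
      omega
  rw [Finset.card_univ, Fintype.card_prod, Fintype.card_subtype_compl, Fintype.card_subtype_eq, mul_comm] at h3
  omega

/-- Forms in the orbit that are additive on a hyperplane. -/
theorem good_bound [FiniteDimensional F V] [Finite V] (h : IsQ Φ B) (lam : V →ₗ[F] F) {e w : V} (he : lam e = 1)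
    (hw : lam w = 0) (hew : B e w = 1) (hH : ∀ x y, lam x = 0 → lam y = 0 → B x y = 0) :
    (Nat.card (LinearMap.ker lam) - 1) * (Fintype.card F * (Fintype.card F - 1)) ≤
      2 * {f | f ∈ orb F Φ ∧ ¬ bad (LinearMap.ker lam) f}.ncard := by
  classical
  set H := LinearMap.ker lam
  let a₀ : H →ₗ[F] F := (B e).comp H.subtype
  have ha₀ : a₀ ≠ 0 := fun h0 => by
    have h1 := LinearMap.congr_fun h0 ⟨w, hw⟩
    simp [a₀, hew] at h1
  set W := Submodule.span F {e, w}
  set Pv := (fun pr : V × V => (Φ pr.1, Φ pr.2)) '' {pr | pr.1 ∈ W ∧ pr.2 ∈ W ∧ B pr.1 pr.2 = 1}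
  let A := {a : H →ₗ[F] F // a ≠ 0}
  haveI : Finite (H →ₗ[F] F) := Finite.of_injective _ (DFunLike.coe_injective (F := H →ₗ[F] F))
  haveI : Fintype A := Fintype.ofFinite A
  have hA : Nat.card A = Nat.card H - 1 := by
    have h1 : Nat.card (H →ₗ[F] F) = Nat.card H := by
      rw [Module.natCard_eq_pow_finrank (K := F), Module.natCard_eq_pow_finrank (K := F) (V := H),
        Module.finrank_linearMap, finrank_self, mul_one]
    let _ := Fintype.ofFinite (H →ₗ[F] F)
    rw [← h1, Nat.card_eq_fintype_card, Nat.card_eq_fintype_card, Fintype.card_subtype_compl,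
      Fintype.card_subtype_eq]
  choose ga hga using fun a : A => exists_dual_move (a := a.1) (a' := a₀) a.2 ha₀
  have hv : ∀ z : Pv, ∃ p r : V, p ∈ W ∧ r ∈ W ∧ B p r = 1 ∧ (Φ p, Φ r) = z.1 := fun z => by
    obtain ⟨⟨p, r⟩, ⟨h1, h2, h3⟩, h4⟩ := z.2
    exact ⟨p, r, h1, h2, h3, h4⟩
  choose p r hpW hrW hpr hval using hv
  -- the automorphisms of the plane
  have hG : ∀ z : Pv, ∃ g : V ≃ₗ[F] V, g e = p z ∧ g w = r z ∧
      ∀ x, lam x = 0 → g x = B e x • r z + (x - B e x • w) := by
    intro z
    let L : V →ₗ[F] V := lam.smulRight (p z) +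
      (((B e).smulRight (r z)) + (LinearMap.id - (B e).smulRight w)).comp (LinearMap.id - lam.smulRight e)
    have hL : ∀ x, L x = lam x • p z + (B e (x - lam x • e) • r z + ((x - lam x • e) - B e (x - lam x • e) • w)) :=
      fun x => rfl
    have hrest : ∀ y, lam y = 0 → B e y = 0 → ∀ v ∈ W, B v y = 0 := fun y hy1 hy2 v hv => by
      obtain ⟨a, b, rfl⟩ := Submodule.mem_span_pair.1 hv
      simp [hy2, hH w y hw hy1]
    have hinj : Function.Injective L := (injective_iff_map_eq_zero L).2 fun x hx => by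
      set y := x - lam x • e with hy
      have hy0 : lam y = 0 := by simp [hy, he]
      set rest := y - B e y • w with hrest_def
      have hr1 : lam rest = 0 := by simp [hrest_def, hy0, hw]
      have hr2 : B e rest = 0 := by simp [hrest_def, hew]
      rw [hL, ← hy, ← hrest_def] at hx
      have h1 := congrArg (B (r z)) hx
      have h2 := congrArg (B (p z)) hx
      simp [h.symm (r z) (p z), hpr, h.self, hrest rest hr1 hr2 _ (hpW z), hrest rest hr1 hr2 _ (hrW z)] at h1 h2
      have h3 : y = x := by simp [hy, h1]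
      rw [h1, h2, zero_smul, zero_smul, zero_add, zero_add, hrest_def, h2, zero_smul, sub_zero, h3] at hx
      exact hx
    refine ⟨LinearEquiv.ofBijective L ⟨hinj, LinearMap.injective_iff_surjective.1 hinj⟩, ?_, ?_, fun x hx => ?_⟩
    · show L e = _
      simp [hL, he]
    · show L w = _
      simp [hL, hw, hew]
    · show L x = _
      simp [hL, hx]
  choose gp hgpe hgpw hgpH using hG
  choose gb hgbH hgbe using fun a : A => exists_ext lam he (ga a) (e' := e) (by rw [he]; exact one_ne_zero)
  let T := {f | f ∈ orb F Φ ∧ ¬ bad (LinearMap.ker lam) f}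
  have hBH : ∀ z : Pv, ∀ x y, lam x = 0 → lam y = 0 → B (gp z x) (gp z y) = 0 := by
    intro z x y hx hy
    have hlr : ∀ x, lam x = 0 → lam (x - B e x • w) = 0 ∧ B e (x - B e x • w) = 0 := fun x hx => by
      simp [hx, hw, hew]
    have hz : ∀ v, lam v = 0 → B e v = 0 → B (r z) v = 0 := fun v h1 h2 => by
      obtain ⟨a, b, hab⟩ := Submodule.mem_span_pair.1 (hrW z)
      rw [← hab]
      simp [h2, hH w v hw h1]
    obtain ⟨hx1, hx2⟩ := hlr x hx
    obtain ⟨hy1, hy2⟩ := hlr y hy
    rw [hgpH z x hx, hgpH z y hy]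
    set a := x - B e x • w
    set b := y - B e y • w
    simp [h.self, h.symm a (r z), hz _ hy1 hy2, hz _ hx1 hx2, hH _ _ hx1 hy1]
  have hgbK : ∀ (a : A) x, lam x = 0 → lam (gb a x) = 0 := fun a x hx => by
    have := hgbH a ⟨x, hx⟩
    simp only at this
    rw [this]
    exact LinearMap.mem_ker.1 (ga a ⟨x, hx⟩).2
  let Θ : A × Pv → T := fun x => ⟨fun v => Φ (gp x.2 (gb x.1 v)), ⟨(gb x.1).trans (gp x.2), rfl⟩, by
    rintro ⟨u, hu, v, hv', hne⟩
    refine hne ?_
    simp only [map_add, h.add, hBH x.2 _ _ (hgbK x.1 u hu) (hgbK x.1 v hv'), add_zero]⟩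
  have hΘ : Function.Injective Θ := by
    rintro ⟨a, z⟩ ⟨a', z'⟩ he'
    have hf : ∀ v, Φ (gp z (gb a v)) = Φ (gp z' (gb a' v)) := fun v => congrFun (congrArg Subtype.val he') v
    have hpol : ∀ (a : A) (z : Pv) (x : H), B (gp z (gb a e)) (gp z (gb a x)) = a.1 x := by
      intro a z x
      rw [hgbe, hgpe, hgbH, hgpH z _ (LinearMap.mem_ker.1 (ga a x).2)]
      have hlr : lam ((ga a x : V) - B e (ga a x : V) • w) = 0 ∧ B e ((ga a x : V) - B e (ga a x : V) • w) = 0 := by
        simp [LinearMap.mem_ker.1 (ga a x).2, hw, hew]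
      have hz : B (p z) ((ga a x : V) - B e (ga a x : V) • w) = 0 := by
        obtain ⟨c, d, hcd⟩ := Submodule.mem_span_pair.1 (hpW z)
        rw [← hcd, map_add, LinearMap.add_apply, map_smul, map_smul, LinearMap.smul_apply, LinearMap.smul_apply,
          hlr.2, hH w _ hw hlr.1]
        simp
      rw [map_add, map_smul, hz, add_zero, hpr, smul_eq_mul, mul_one, ← hga a x]
      rfl
    have ha : a = a' := Subtype.ext (LinearMap.ext fun x => by
      have h1 := hf (e + x)
      simp only [map_add, h.add, hpol] at h1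
      rw [hf e, hf x] at h1
      exact add_left_cancel h1)
    subst ha
    refine Prod.ext rfl (Subtype.ext ?_)
    show z.1 = z'.1
    rw [← hval z, ← hval z']
    refine Prod.ext ?_ ?_
    · have := hf e
      rwa [hgbe, hgpe, hgpe] at this
    · have := hf ((ga a).symm ⟨w, hw⟩ : V)
      rwa [hgbH, LinearEquiv.apply_symm_apply, hgpw, hgpw] at this
  have h1 := Nat.card_le_card_of_injective Θ hΘ
  rw [Nat.card_prod, hA, Nat.card_coe_set_eq, Nat.card_coe_set_eq] at h1
  calc (Nat.card H - 1) * (Fintype.card F * (Fintype.card F - 1))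
      ≤ (Nat.card H - 1) * (2 * Pv.ncard) := Nat.mul_le_mul_left _ (pair_values h hew)
    _ = 2 * ((Nat.card H - 1) * Pv.ncard) := by ring
    _ ≤ _ := Nat.mul_le_mul_left _ h1

theorem recursion (q X : ℕ) (hq : 1 ≤ q) (hX : q ≤ X) :
    (q * X - 1) * (q * X - q) = q ^ 2 * ((X - 1) * (X - q)) + (q + 1) * ((X - 1) * (q * (q - 1))) := by
  have h1 : 1 ≤ X := hq.trans hX
  have h2 : q ≤ q * X := Nat.le_mul_of_pos_right q h1
  zify [h1, hX, hq, h2, hq.trans h2]
  ring

theorem step_ineq (q X : ℕ) (hq : 2 ≤ q) (hX : 2 * q ≤ X) :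
    (q * X - 1) * (q * X - q) ≤ q ^ 3 * (q - 1) * ((X - 1) * (X - q)) := by
  have h0 : q * X - q = q * (X - 1) := by rw [Nat.mul_sub, mul_one]
  have h1 : q * X - 1 ≤ q * q * (q - 1) * (X - q) := by
    obtain ⟨Y, rfl⟩ : ∃ Y, X = 2 * q + Y := ⟨X - 2 * q, by omega⟩
    obtain ⟨r, rfl⟩ : ∃ r, q = r + 2 := ⟨q - 2, by omega⟩
    rw [show 2 * (r + 2) + Y - (r + 2) = r + 2 + Y by omega, show r + 2 - 1 = r + 1 by omega]
    refine (Nat.sub_le _ _).trans ?_
    nlinarith [Nat.zero_le (r * Y), Nat.zero_le (r * r * Y), Nat.zero_le (r * r * r * Y)]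
  calc (q * X - 1) * (q * X - q) ≤ q * q * (q - 1) * (X - q) * (q * (X - 1)) := by
        rw [h0]; exact Nat.mul_le_mul_right _ h1
    _ = q ^ 3 * (q - 1) * ((X - 1) * (X - q)) := by ring

/-- The orbit bound. -/
theorem orb_bound : ∀ (n : ℕ) (V : Type*) [AddCommGroup V] [Module F V] [FiniteDimensional F V] [Finite V]
    (Φ : V → F) (B : V →ₗ[F] V →ₗ[F] F), finrank F V = n → IsQ Φ B → B ≠ 0 →
    (Fintype.card F ^ n - 1) * (Fintype.card F ^ n - Fintype.card F) ≤
      2 * (Fintype.card F + 1) * (orb F Φ).ncard := by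
  intro n
  induction n with
  | zero => intro V _ _ _ _ Φ B _ _ _; simp
  | succ n ih =>
    intro V _ _ _ _ Φ B hn h hB
    classical
    set q := Fintype.card F with hq
    have hq2 : 2 ≤ q := Fintype.one_lt_card
    have hker : ∀ lam : V →ₗ[F] F, ∀ e, lam e = 1 → finrank F (LinearMap.ker lam) = n := fun lam e he => by
      have h1 := LinearMap.finrank_range_add_finrank_ker lam
      rw [LinearMap.range_eq_top.2 (LinearMap.surjective fun h0 => by simp [h0] at he), finrank_top, finrank_self, hn] at h1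
      omega
    obtain ⟨u, w, huw⟩ : ∃ u w, B u w = 1 := by
      obtain ⟨u, hu⟩ : ∃ u, B u ≠ 0 := by
        by_contra hc
        push Not at hc
        exact hB (LinearMap.ext hc)
      obtain ⟨w, hw⟩ := LinearMap.surjective hu 1
      exact ⟨u, w, hw⟩
    -- restriction to a hyperplane containing a hyperbolic pair
    have hIH : ∀ (lam : V →ₗ[F] F) (e x y : V), lam e = 1 → lam x = 0 → lam y = 0 → B x y ≠ 0 →
        (q ^ n - 1) * (q ^ n - q) ≤ 2 * (q + 1) * (orb F fun z : LinearMap.ker lam => Φ z).ncard := by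
      intro lam e x y he hx hy hxy
      refine ih (LinearMap.ker lam) _ _ (hker lam e he) (h.restrict _) fun h0 => hxy ?_
      exact LinearMap.congr_fun (LinearMap.congr_fun h0 ⟨x, hx⟩) ⟨y, hy⟩
    have hn2 : 2 ≤ n + 1 := by
      rw [← hn]
      have hli : LinearIndependent F ![u, w] := by
        rw [LinearIndependent.pair_iff]
        intro a b hab
        have h1 := congrArg (B u) hab
        have h2 := congrArg (B w) hab
        simp [h.self, huw, h.symm w u] at h1 h2
        exact ⟨h2, h1⟩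
      simpa using hli.fintype_card_le_finrank
    by_cases hA : ∃ v x y : V, Φ v = 0 ∧ B v ≠ 0 ∧ B v x = 0 ∧ B v y = 0 ∧ B x y ≠ 0
    · obtain ⟨v, x, y, hv, hBv, hx, hy, hxy⟩ := hA
      obtain ⟨e, he⟩ := LinearMap.surjective hBv 1
      have hn3 : 2 ≤ n := by
        rw [← hker (B v) e he]
        have hli : LinearIndependent F ![(⟨x, hx⟩ : LinearMap.ker (B v)), ⟨y, hy⟩] := by
          rw [LinearIndependent.pair_iff]
          intro a b hab
          have hab' : a • x + b • y = 0 := congrArg Subtype.val hab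
          have h1 := congrArg (B x) hab'
          have h2 := congrArg (B y) hab'
          simp [h.self, hxy, h.symm y x] at h1 h2
          exact ⟨h2, h1⟩
        simpa using hli.fintype_card_le_finrank
      set x' := (B x y)⁻¹ • x with hx'
      have hx'v : B v x' = 0 := by simp [hx', hx]
      have hx'y : B x' y = 1 := by simp [hx', inv_mul_cancel₀ hxy]
      let P := {c : F // c ≠ 0} × F × F × F
      let E : P → V := fun p => p.1.1 • e + p.2.1 • x' + p.2.2.1 • y + p.2.2.2 • v
      have hE : ∀ p, B v (E p) = p.1.1 := fun p => by simp [E, he, hx'v, hy, h.self]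
      have hfib := fibre_bound h (B v) he hx'v hy (by rw [hx'y]; exact one_ne_zero) E
        (fun p => by rw [hE]; exact p.1.2) fun p p' hΦ hBx => by
          have h1 := hBx v (h.self v)
          rw [h.symm (E p), h.symm (E p'), hE, hE] at h1
          have h2 := hBx x' hx'v
          have h3 := hBx y hy
          simp [E, h.self, h.symm y x', hx'y, h.symm x' v, hx'v, h.symm y v, hy, h1, h.symm v x', h.symm v y] at h2 h3
          obtain ⟨⟨c, hc⟩, s, t, z⟩ := p
          obtain ⟨⟨c', hc'⟩, s', t', z'⟩ := p'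
          simp only at h1 h2 h3
          subst h1
          subst h2
          subst h3
          simp only [E] at hΦ
          rw [h.add (c • e + s • x' + t • y), h.add (c • e + s • x' + t • y) (z' • v)] at hΦ
          simp only [h.scale, hv, mul_zero, add_zero, map_smul, h.symm (c • e + s • x' + t • y) v, map_add, he, hx'v,
            hy, smul_eq_mul, mul_one, add_right_inj] at hΦ
          simp [h.symm e v, h.symm x' v, h.symm y v, he, hx'v, hy, hc] at hΦ
          rw [hΦ]
      have hsub : {f | f ∈ orb F Φ ∧ bad (LinearMap.ker (B v)) f}.ncard ≤ (orb F Φ).ncard :=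
        Set.ncard_le_ncard (fun f hf => hf.1) (Set.toFinite _)
      rw [Fintype.card_prod, Fintype.card_prod, Fintype.card_prod, Fintype.card_subtype_compl,
        Fintype.card_subtype_eq, ← hq] at hfib
      have h4 := hIH (B v) e x' y he hx'v hy (by rw [hx'y]; exact one_ne_zero)
      have hX : 2 * q ≤ q ^ n := by
        calc 2 * q ≤ q * q := Nat.mul_le_mul_right q hq2
          _ = q ^ 2 := (sq q).symm
          _ ≤ q ^ n := Nat.pow_le_pow_right (by omega) hn3
      have h5 := step_ineq q (q ^ n) hq2 hX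
      rw [pow_succ']
      calc (q * q ^ n - 1) * (q * q ^ n - q) ≤ q ^ 3 * (q - 1) * ((q ^ n - 1) * (q ^ n - q)) := h5
        _ ≤ q ^ 3 * (q - 1) * (2 * (q + 1) * (orb F fun z : LinearMap.ker (B v) => Φ z).ncard) :=
          Nat.mul_le_mul_left _ h4
        _ = 2 * (q + 1) * ((q - 1) * (q * (q * q)) * (orb F fun z : LinearMap.ker (B v) => Φ z).ncard) := by ring
        _ ≤ 2 * (q + 1) * (orb F Φ).ncard := Nat.mul_le_mul_left _ (hfib.trans hsub)
    · push Not at hA
      -- the common kernel of the pair is totally isotropic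
      have hR : ∀ x y, B u x = 0 → B w x = 0 → B u y = 0 → B w y = 0 → B x y = 0 := by
        intro x y hxu hxw hyu hyw
        by_contra hxy
        set y' := (B x y)⁻¹ • y
        have hxy' : B x y' = 1 := by simp [y', inv_mul_cancel₀ hxy]
        have hy'u : B u y' = 0 := by simp [y', hyu]
        have hy'w : B w y' = 0 := by simp [y', hyw]
        have hu0 : ∀ z, Φ z = 0 → B z ≠ 0 → ∀ a b, B z a = 0 → B z b = 0 → B a b = 0 :=
          fun z h1 h2 a b => hA z a b h1 h2
        obtain ⟨s, hs⟩ := exists_sqrt (Φ x)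
        obtain ⟨t, ht⟩ := exists_sqrt (Φ u)
        by_cases ht0 : t = 0
        · have : B x y' = 0 := hu0 u (by rw [← ht, ht0, mul_zero]) (fun h0 => by simp [h0] at huw) x y' hxu hy'u
          rw [hxy'] at this
          exact one_ne_zero this
        set v := s • u + t • x
        have hv : Φ v = 0 := by
          rw [h.add, h.scale, h.scale, map_smul, map_smul, LinearMap.smul_apply, hxu, hs, ht, smul_zero, smul_zero,
            add_zero, mul_comm (Φ x), CharTwo.add_self_eq_zero]
        have hvy : B v y' = t := by simp [v, hy'u, hxy']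
        have hvw : B v w = s := by simp [v, huw, h.symm x w, hxw]
        refine ht0 ?_
        have := hu0 v hv (fun h0 => ht0 (by rw [← hvy, h0]; rfl)) u (t • w + s • y') (by simp [v, h.self, h.symm x u, hxu])
          (by simp [hvy, hvw, mul_comm s t, CharTwo.add_self_eq_zero])
        simpa [huw, hy'u] using this
      -- the hyperplane
      obtain ⟨lam, e, he, hlu, hlw⟩ : ∃ (lam : V →ₗ[F] F) (e : V), lam e = 1 ∧ (n + 1 = 2 ∨ (lam u = 0 ∧ lam w = 0)) ∧
          (n + 1 = 2 → lam w = 0) := by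
        by_cases h2 : n + 1 = 2
        · exact ⟨B w, u, by rw [h.symm, huw], Or.inl h2, fun _ => h.self w⟩
        · obtain ⟨z, hz⟩ : ∃ z, z ∉ Submodule.span F {u, w} := by
            by_contra hc
            push Not at hc
            have h3 := finrank_span_le_card (R := F) ({u, w} : Set V)
            rw [show Submodule.span F {u, w} = ⊤ from eq_top_iff.2 fun x _ => hc x, finrank_top, hn] at h3
            have h4 : ({u, w} : Set V).toFinset.card ≤ 2 := by
              rw [Set.toFinset_insert, Set.toFinset_singleton]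
              exact Finset.card_le_two
            omega
          obtain ⟨φ, hφ, hW⟩ := (Submodule.span F {u, w}).exists_le_ker_of_notMem hz
          exact ⟨(φ z)⁻¹ • φ, z, by simp [hφ],
            Or.inr ⟨by simp [LinearMap.mem_ker.1 (hW (Submodule.subset_span (Set.mem_insert _ _)))],
              by simp [LinearMap.mem_ker.1 (hW (Submodule.subset_span (Set.mem_insert_of_mem _ rfl)))]⟩,
            fun h3 => absurd h3 h2⟩
      set H := LinearMap.ker lam
      have hX : q ≤ q ^ n := Nat.le_self_pow (by omega) q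
      -- the forms that are not additive on the hyperplane
      have hS1 : q ^ 2 * ((q ^ n - 1) * (q ^ n - q)) ≤
          2 * (q + 1) * {f | f ∈ orb F Φ ∧ bad H f}.ncard := by
        rcases hlu with h2 | ⟨hu, hw⟩
        · rw [show n = 1 by omega, pow_one, Nat.sub_self, mul_zero, mul_zero]
          exact Nat.zero_le _
        · let E : F × F → V := fun p => e + p.1 • u + p.2 • w
          have hfib := fibre_bound h lam he hu hw (by rw [huw]; exact one_ne_zero) E
            (fun p => by simp [E, he, hu, hw]) fun p p' _ hBx => by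
              have h2 := hBx u hu
              have h3 := hBx w hw
              simp [E, h.self, huw, h.symm w u] at h2 h3
              exact Prod.ext h3 h2
          rw [Fintype.card_prod, ← hq, ← sq] at hfib
          calc q ^ 2 * ((q ^ n - 1) * (q ^ n - q))
              ≤ q ^ 2 * (2 * (q + 1) * (orb F fun z : LinearMap.ker lam => Φ z).ncard) :=
                Nat.mul_le_mul_left _ (hIH lam e u w he hu hw (by rw [huw]; exact one_ne_zero))
            _ = 2 * (q + 1) * (q ^ 2 * (orb F fun z : LinearMap.ker lam => Φ z).ncard) := by ring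
            _ ≤ _ := Nat.mul_le_mul_left _ hfib
      -- a form in the orbit that is additive on the hyperplane
      obtain ⟨k, w', hkH, hw', hkew⟩ : ∃ (k : V ≃ₗ[F] V) (w' : V),
          (∀ x y, lam x = 0 → lam y = 0 → B (k x) (k y) = 0) ∧ lam w' = 0 ∧ B (k e) (k w') = 1 := by
        set lH : V →ₗ[F] F := B w with hlH
        have hlH' : lH u = 1 := by rw [hlH, h.symm, huw]
        obtain ⟨g, hg⟩ := exists_dual_move (a := lam) (a' := lH) (fun h0 => by simp [h0] at he)
          (fun h0 => by simp [h0] at hlH')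
        have hgiso : ∀ x y, lH x = 0 → lH y = 0 → B x y = 0 := by
          intro x y hx hy
          simp only [hlH] at hx hy
          set x₁ := x - B u x • w with hx₁
          set y₁ := y - B u y • w with hy₁
          have h1 : B x₁ y₁ = 0 := hR x₁ y₁ (by simp [x₁, huw]) (by simp [x₁, hlH, hx, h.self])
            (by simp [y₁, huw]) (by simp [y₁, hlH, hy, h.self])
          simp only [x₁, y₁, map_sub, LinearMap.sub_apply, map_smul, LinearMap.smul_apply, h.self, smul_zero, sub_zero,
            h.symm x w] at h1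
          simpa [hx, hy] using h1
        have hker' : ∀ x, lam x = 0 → lH (g x) = 0 := fun x hx => by rw [hg, hx]
        have hge : lH (g e) = 1 := by rw [hg, he]
        refine ⟨g, g.symm w, fun x y hx hy => hgiso _ _ (hker' x hx) (hker' y hy), ?_, ?_⟩
        · rw [← hg, LinearEquiv.apply_symm_apply]
          exact h.self w
        · rw [LinearEquiv.apply_symm_apply, h.symm]
          exact hge
      have hgood := good_bound (h.comp k) lam he hw' (by simpa using hkew) fun x y hx hy => by simpa using hkH x y hx hy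
      have horb : orb F (fun x => Φ (k x)) ⊆ orb F Φ := by
        rintro _ ⟨g, rfl⟩
        exact ⟨g.trans k, rfl⟩
      have hS2 : (q + 1) * ((q ^ n - 1) * (q * (q - 1))) ≤
          2 * (q + 1) * {f | f ∈ orb F Φ ∧ ¬ bad H f}.ncard := by
        have hcardH : Nat.card H = q ^ n := by
          rw [Module.natCard_eq_pow_finrank (K := F), hker lam e he, Nat.card_eq_fintype_card]
        rw [hcardH] at hgood
        have hmono : {f | f ∈ orb F (fun x => Φ (k x)) ∧ ¬ bad H f}.ncard ≤ {f | f ∈ orb F Φ ∧ ¬ bad H f}.ncard :=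
          Set.ncard_le_ncard (fun f hf => ⟨horb hf.1, hf.2⟩) (Set.toFinite _)
        calc (q + 1) * ((q ^ n - 1) * (q * (q - 1)))
            ≤ (q + 1) * (2 * {f | f ∈ orb F Φ ∧ ¬ bad H f}.ncard) :=
              Nat.mul_le_mul_left _ (hgood.trans (Nat.mul_le_mul_left 2 hmono))
          _ = _ := by ring
      have hsum : {f | f ∈ orb F Φ ∧ bad H f}.ncard + {f | f ∈ orb F Φ ∧ ¬ bad H f}.ncard = (orb F Φ).ncard := by
        rw [← Set.ncard_union_eq ?_ (Set.toFinite _) (Set.toFinite _)]
        · congr 1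
          ext f
          simp only [Set.mem_union, Set.mem_ofPred_eq]
          tauto
        · rw [Set.disjoint_left]
          exact fun f hf hf' => hf'.2 hf.2
      rw [pow_succ', recursion q (q ^ n) (by omega) hX, ← hsum, mul_add]
      exact Nat.add_le_add hS1 hS2

end Cfsg.Agent.SpEvenDeg
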